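import Cfsg.Agent.HalfTransitive.PGroup
import Cfsg.Agent.TwoGroupsQ.UniqueInvolution
import Cfsg.Agent.S3380.Basic
import Cfsg.Agent.S3370

/-!
Half-transitive linear 2-groups in odd characteristic (Passman).
-/

set_option autoImplicit false

namespace CfsgLib.HalfLin

open scoped BigOperators

variable {q : ℕ} [Fact q.Prime] {V : Type*} [AddCommGroup V] [Module (ZMod q) V] [Finite V]
variable {G : Type*} [Group G] [Finite G] (ρ : G →* (V ≃ₗ[ZMod q] V))

theorem ρ_mul (g h : G) (v : V) : ρ (g * h) v = ρ g (ρ h v) := by rw [map_mul]; rfl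

theorem ρ_one (v : V) : ρ (1 : G) v = v := by rw [map_one]; rfl

/-- The stabiliser of a vector. -/
def stab (v : V) : Subgroup G where
  carrier := {g | ρ g v = v}
  one_mem' := ρ_one ρ v
  mul_mem' := fun {g h} hg hh => by
    show ρ (g * h) v = v
    rw [ρ_mul, show ρ h v = v from hh, show ρ g v = v from hg]
  inv_mem' := fun {g} hg => by
    show ρ g⁻¹ v = v
    conv_lhs => rw [← show ρ g v = v from hg]
    rw [← ρ_mul, inv_mul_cancel, ρ_one]

theorem mem_stab {g : G} {v : V} : g ∈ stab ρ v ↔ ρ g v = v := Iff.rfl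

/-- All vector stabilisers have the same order. -/
def Half : Prop := ∀ v w : V, v ≠ 0 → w ≠ 0 → Nat.card (stab ρ v) = Nat.card (stab ρ w)

/-- The action as a class instance. -/
@[implicit_reducible]
def act : DistribMulAction G V where
  smul g v := ρ g v
  one_smul := ρ_one ρ
  mul_smul := ρ_mul ρ
  smul_zero g := map_zero (ρ g)
  smul_add g := map_add (ρ g)

theorem half_of_orbits (h : ∀ v w : V, v ≠ 0 → w ≠ 0 →
    Nat.card {u : V | ∃ g : G, ρ g v = u} = Nat.card {u : V | ∃ g : G, ρ g w = u}) : Half ρ := by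
  letI := act ρ
  intro v w hv hw
  have key : ∀ x : V, Nat.card {u : V | ∃ g : G, ρ g x = u} * Nat.card (stab ρ x) = Nat.card G := by
    intro x
    have h1 := Subgroup.index_mul_card (MulAction.stabilizer G x)
    rw [MulAction.index_stabilizer] at h1
    rw [Nat.card_coe_set_eq]
    exact h1
  have h1 := key v
  rw [h v w hv hw, ← key w] at h1
  refine Nat.eq_of_mul_eq_mul_left (Nat.pos_of_ne_zero fun h0 => ?_) h1
  have h2 := key w
  rw [h0, zero_mul] at h2
  exact Nat.card_pos.ne' h2.symm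

variable {ρ}

theorem two_ne_zero' (hq2 : q ≠ 2) : (2 : ZMod q) ≠ 0 := fun h => by
  have h' : ((2 : ℕ) : ZMod q) = 0 := by exact_mod_cast h
  rw [ZMod.natCast_eq_zero_iff] at h'
  exact hq2 ((Nat.prime_dvd_prime_iff_eq Fact.out Nat.prime_two).1 h')

theorem eq_zero_of_eq_neg (hq2 : q ≠ 2) {v : V} (h : v = -v) : v = 0 := by
  have h2 : (2 : ZMod q) • v = 0 := by
    rw [two_smul]; nth_rw 2 [h]; exact add_neg_cancel v
  exact (smul_eq_zero.1 h2).resolve_left (two_ne_zero' hq2)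

theorem nsmul_eq_zero' (v : V) : q • v = 0 := by
  rw [← Nat.cast_smul_eq_nsmul (ZMod q), ZMod.natCast_self, zero_smul]

/-- Central involutions act as `-1`. -/
theorem central_eq_neg (hρ : Function.Injective ρ) (hH : Half ρ) (hq2 : q ≠ 2) {z : G}
    (hz : z * z = 1) (hz1 : z ≠ 1) (hc : ∀ g, Commute z g) (v : V) : ρ z v = -v := by
  letI := act ρ
  haveI : FaithfulSMul G V := ⟨fun {g h} hgh => hρ (LinearEquiv.ext hgh)⟩
  haveI : Fact (Nat.Prime 2) := ⟨Nat.prime_two⟩
  have h0 : v + ρ z v = 0 := by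
    refine HalfTransitive.fixed_of_central (P := G) (E := V) (p := 2) hH (Ne.symm hq2) Fact.out
      (nsmul_eq_zero') (z := z) (by rw [pow_two, hz]) hz1 hc ?_
    show ρ z (v + ρ z v) = v + ρ z v
    rw [map_add, ← ρ_mul, hz, ρ_one, add_comm]
  exact (neg_eq_of_add_eq_zero_right h0).symm

theorem q_two_trivial {G : Type*} [Group G] [Finite G] {V : Type*} [AddCommGroup V] [Module (ZMod 2) V]
    [Finite V] [Nontrivial V] {ρ : G →* (V ≃ₗ[ZMod 2] V)} (hρ : Function.Injective ρ) (hH : Half ρ)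
    (hG : IsPGroup 2 G) (g : G) : g = 1 := by
  haveI : Fact (Nat.Prime 2) := ⟨Nat.prime_two⟩
  letI := act ρ
  obtain ⟨b, hb, hb0⟩ := hG.exists_fixed_point_of_prime_dvd_card_of_fixed_point V
    (by
      obtain ⟨e, he⟩ := exists_ne (0 : V)
      rw [← addOrderOf_eq_prime (nsmul_eq_zero' (q := 2) e) he]
      exact addOrderOf_dvd_natCard e)
    (a := (0 : V)) (fun g => map_zero (ρ g))
  refine hρ ((LinearEquiv.ext fun v => ?_).trans (map_one ρ).symm)
  by_cases hv : v = 0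
  · subst hv; simp
  · have hbt : stab ρ b = ⊤ := eq_top_iff.2 fun g _ => hb g
    have htop : stab ρ v = ⊤ := by
      rw [← Subgroup.card_eq_iff_eq_top, hH v b hv (Ne.symm hb0), hbt, Subgroup.card_top]
    exact (mem_stab ρ).1 (htop ▸ Subgroup.mem_top g)

/-- The `±1` eigenspaces of an involution give coordinates. -/
theorem card_eigen (hq2 : q ≠ 2) {t : G} (ht : t * t = 1) :
    Nat.card V = Nat.card {v : V // ρ t v = v} * Nat.card {v : V // ρ t v = -v} := by
  rw [← Nat.card_prod]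
  refine (Nat.card_congr (Equiv.ofBijective
    (fun x : {v : V // ρ t v = v} × {v : V // ρ t v = -v} => x.1.1 + x.2.1) ⟨?_, ?_⟩)).symm
  · rintro ⟨⟨u, hu⟩, ⟨w, hw⟩⟩ ⟨⟨u', hu'⟩, ⟨w', hw'⟩⟩ h
    have h2 := congrArg (ρ t) h
    simp only [map_add, hu, hw, hu', hw'] at h h2
    have e1 : u - u' = -(u - u') := by
      have h3 : u - u' = w' - w := sub_eq_sub_iff_add_eq_add.2 (h.trans (add_comm _ _))
      have h4 : u - u' = -(w' - w) := by
        rw [neg_sub]; exact sub_eq_sub_iff_add_eq_add.2 (by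
          calc u + w' = (u + -w) + (w + w') := by abel
            _ = (u' + -w') + (w + w') := by rw [h2]
            _ = w + u' := by abel)
      rw [← h3] at h4; exact h4
    have e2 : u = u' := sub_eq_zero.1 (eq_zero_of_eq_neg hq2 e1)
    subst e2
    have e3 : w = w' := add_left_cancel h
    subst e3
    rfl
  · intro v
    refine ⟨(⟨(2 : ZMod q)⁻¹ • (v + ρ t v), ?_⟩, ⟨(2 : ZMod q)⁻¹ • (v - ρ t v), ?_⟩), ?_⟩
    · rw [map_smul, map_add, ← ρ_mul, ht, ρ_one, add_comm]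
    · rw [map_smul, map_sub, ← ρ_mul, ht, ρ_one, ← smul_neg, neg_sub]
    · show (2 : ZMod q)⁻¹ • (v + ρ t v) + (2 : ZMod q)⁻¹ • (v - ρ t v) = v
      rw [← smul_add, add_add_sub_cancel, ← two_smul (ZMod q) v, inv_smul_smul₀ (two_ne_zero' hq2)]

theorem card_fix_eq_pow (t : G) : ∃ d : ℕ, Nat.card {v : V // ρ t v = v} = q ^ d := by
  refine ⟨Module.finrank (ZMod q)
    (LinearMap.eqLocus (ρ t : V →ₗ[ZMod q] V) LinearMap.id), ?_⟩
  have := Module.natCard_eq_pow_finrank (K := ZMod q)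
    (V := LinearMap.eqLocus (ρ t : V →ₗ[ZMod q] V) LinearMap.id)
  rw [Nat.card_zmod] at this
  exact this

/-- Counting vectors by the unique involution fixing them. -/
theorem count {ι : Type*} [Finite ι] [Nonempty ι] (hq2 : q ≠ 2) (r : ι → G)
    (hr2 : ∀ i, r i * r i = 1) (hex : ∀ v : V, v ≠ 0 → ∃ i, ρ (r i) v = v)
    (huniq : ∀ v : V, v ≠ 0 → ∀ i j, ρ (r i) v = v → ρ (r j) v = v → i = j)
    (heq : ∀ i, Nat.card {v : V // ρ (r i) v = -v} = Nat.card {v : V // ρ (r i) v = v})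
    [Nontrivial V] : ∃ d : ℕ, Nat.card V = (q ^ d) ^ 2 ∧ q ^ d + 1 = Nat.card ι := by
  classical
  haveI := Fintype.ofFinite ι
  haveI := Fintype.ofFinite V
  obtain ⟨i₀⟩ := ‹Nonempty ι›
  obtain ⟨d, hd⟩ := card_fix_eq_pow (ρ := ρ) (r i₀)
  have hsq : ∀ i, Nat.card V = Nat.card {v : V // ρ (r i) v = v} ^ 2 := fun i => by
    rw [card_eigen hq2 (hr2 i), heq, pow_two]
  have hc : ∀ i, Nat.card {v : V // ρ (r i) v = v} = q ^ d := fun i => by
    rw [← hd]
    exact Nat.pow_left_injective two_ne_zero ((hsq i).symm.trans (hsq i₀))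
  have hfin : (Finset.univ : Finset V).erase 0 =
      Finset.univ.biUnion fun i => ((Finset.univ : Finset V).filter fun v => ρ (r i) v = v).erase 0 := by
    ext v
    simp only [Finset.mem_erase, Finset.mem_univ, and_true, Finset.mem_biUnion, Finset.mem_filter,
      true_and]
    exact ⟨fun hv => (hex v hv).imp fun i hi => ⟨hv, hi⟩, fun ⟨_, hv, _⟩ => hv⟩
  have hcount := congrArg Finset.card hfin
  rw [Finset.card_biUnion, Finset.card_erase_of_mem (Finset.mem_univ _), Finset.card_univ] at hcount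
  · have hone : ∀ i, (((Finset.univ : Finset V).filter fun v => ρ (r i) v = v).erase 0).card =
        q ^ d - 1 := by
      intro i
      rw [Finset.card_erase_of_mem (by simp), ← Fintype.card_subtype, ← Nat.card_eq_fintype_card, hc]
    rw [Finset.sum_congr rfl (fun i _ => hone i), Finset.sum_const, Finset.card_univ, smul_eq_mul,
      ← Nat.card_eq_fintype_card, ← Nat.card_eq_fintype_card] at hcount
    have hV : Nat.card V = (q ^ d) ^ 2 := by rw [hsq i₀, hd]
    refine ⟨d, hV, ?_⟩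
    have h1 : 1 < Nat.card V := Finite.one_lt_card
    have hd1 : 2 ≤ q ^ d := by
      by_contra h
      have : q ^ d ≤ 1 := by omega
      have := Nat.pow_le_pow_left this 2
      rw [← hV] at this
      omega
    obtain ⟨c, hcd⟩ : ∃ c, q ^ d = c + 1 := ⟨q ^ d - 1, by omega⟩
    rw [hV, hcd, Nat.add_sub_cancel, show (c + 1) ^ 2 - 1 = c * (c + 2) by
      rw [show (c + 1) ^ 2 = c * (c + 2) + 1 by ring]; rfl] at hcount
    rw [hcd]
    exact Nat.eq_of_mul_eq_mul_right (show 0 < c by omega) (by rw [← hcount]; ring)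
  · intro i _ j _ hij
    rw [Function.onFun, Finset.disjoint_left]
    intro v hv hv'
    simp only [Finset.mem_erase, Finset.mem_filter, Finset.mem_univ, true_and] at hv hv'
    exact hij (huniq v hv.1 i j hv.2 hv'.2)

/-- The count for a group with a free cyclic subgroup of index two. -/
theorem count_of_index_two {ι : Type*} [Finite ι] [Nonempty ι] [Nontrivial V]
    (hρ : Function.Injective ρ) (hH : Half ρ) (hq2 : q ≠ 2) {a z : G}
    (hidx : (Subgroup.zpowers a).index = 2) (hza : z ∈ Subgroup.zpowers a) (hz : z * z = 1)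
    (hz1 : z ≠ 1) (hzc : ∀ g, Commute z g) (hG : IsPGroup 2 G)
    (hnf : ∃ g : G, g ≠ 1 ∧ ∃ v : V, v ≠ 0 ∧ ρ g v = v)
    (r : ι → G) (hr : Function.Injective r) (hr2 : ∀ i, r i * r i = 1)
    (hrA : ∀ i, r i ∉ Subgroup.zpowers a)
    (hall : ∀ g, g ∉ Subgroup.zpowers a → g * g = 1 → ∃ i, r i = g)
    (hconj : ∀ i, ∃ g, g * r i * g⁻¹ = r i * z) :
    ∃ d : ℕ, Nat.card V = (q ^ d) ^ 2 ∧ q ^ d + 1 = Nat.card ι := by
  have hneg := central_eq_neg hρ hH hq2 hz hz1 hzc
  haveI : Fact (Nat.Prime 2) := ⟨Nat.prime_two⟩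
  haveI hAn : (Subgroup.zpowers a).Normal := Subgroup.normal_of_index_eq_two hidx
  -- the cyclic subgroup is free
  have hfree : ∀ g ∈ Subgroup.zpowers a, ∀ v : V, v ≠ 0 → ρ g v = v → g = 1 := by
    intro g hg v hv hfix
    by_contra hg1
    obtain ⟨k, hk⟩ := IsPGroup.iff_orderOf.1 hG g
    obtain ⟨k, rfl⟩ : ∃ j, k = j + 1 := ⟨k - 1, by
      rcases k with _ | k
      · exact absurd (orderOf_eq_one_iff.1 (by simpa using hk)) hg1
      · rfl⟩
    set u := g ^ 2 ^ k with hu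
    have huo : orderOf u = 2 := by
      rw [hu, orderOf_pow, hk, Nat.gcd_eq_right (pow_dvd_pow 2 (Nat.le_succ k)),
        Nat.pow_div (Nat.le_succ k) two_pos]
      simp
    have huz : u = z := by
      have hz2 : orderOf z = 2 := orderOf_eq_prime (by rw [pow_two, hz]) hz1
      have hum : u ∈ Subgroup.zpowers a := pow_mem hg _
      classical
      haveI := Fintype.ofFinite (Subgroup.zpowers a)
      have hdvd : 2 ∣ Fintype.card (Subgroup.zpowers a) := by
        rw [← Nat.card_eq_fintype_card, ← hz2]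
        exact Subgroup.orderOf_dvd_natCard _ hza
      have hc := IsCyclic.card_orderOf_eq_totient (α := Subgroup.zpowers a) hdvd
      rw [Nat.totient_two] at hc
      have := Finset.card_le_one.1 hc.le (⟨u, hum⟩ : Subgroup.zpowers a)
        (by simp [huo]) (⟨z, hza⟩ : Subgroup.zpowers a) (by simp [hz2])
      exact congrArg Subtype.val this
    have h1 : ρ u v = v := (mem_stab ρ).1 (pow_mem ((mem_stab ρ).2 hfix) _)
    rw [huz, hneg] at h1
    exact hv (eq_zero_of_eq_neg hq2 h1.symm)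
  refine count (ρ := ρ) hq2 r hr2 (fun v hv => ?_) (fun v hv i j hi hj => ?_) (fun i => ?_)
  · obtain ⟨g, hg1, w, hw, hgw⟩ := hnf
    have hne : stab ρ v ≠ ⊥ := by
      intro h
      have hc := hH v w hv hw
      rw [h, Subgroup.card_bot] at hc
      have hbot : stab ρ w = ⊥ := Subgroup.eq_bot_of_card_eq _ hc.symm
      exact hg1 (Subgroup.mem_bot.1 (hbot ▸ (hgw : g ∈ stab ρ w)))
    obtain ⟨x, hx, hx1⟩ := (Subgroup.bot_or_exists_ne_one _).resolve_left hne
    have hxA : x ∉ Subgroup.zpowers a := fun h => hx1 (hfree x h v hv hx)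
    have hxx : x * x = 1 := hfree _ (by
      rw [Subgroup.mul_mem_iff_of_index_two hidx]) v hv ((stab ρ v).mul_mem hx hx)
    obtain ⟨i, rfl⟩ := hall x hxA hxx
    exact ⟨i, hx⟩
  · apply hr
    have hm : r i * r j ∈ Subgroup.zpowers a := by
      rw [Subgroup.mul_mem_iff_of_index_two hidx]
      exact iff_of_false (hrA i) (hrA j)
    have h := hfree _ hm v hv ((stab ρ v).mul_mem hi hj)
    exact (eq_inv_of_mul_eq_one_left h).trans (inv_eq_of_mul_eq_one_right (hr2 j))
  · obtain ⟨g, hg⟩ := hconj i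
    refine Nat.card_congr ((ρ g⁻¹).toEquiv.subtypeEquiv fun v => ?_)
    show ρ (r i) v = -v ↔ ρ (r i) (ρ g⁻¹ v) = ρ g⁻¹ v
    have h1 : ρ (r i) (ρ g⁻¹ v) = ρ g⁻¹ (ρ (r i * z) v) := by
      rw [← ρ_mul, ← ρ_mul]; congr 2; rw [← hg]; group
    rw [h1, ρ_mul, hneg, map_neg]
    constructor
    · intro h; rw [h, neg_neg]
    · intro h
      rw [← neg_neg (ρ (r i) v), (ρ g⁻¹).injective h]

/-- The case of a normal four-group. -/
theorem split_case [Nontrivial V] (hρ : Function.Injective ρ) (hH : Half ρ) (hq2 : q ≠ 2)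
    (hG : IsPGroup 2 G) {z a : G} (hz : z * z = 1) (hz1 : z ≠ 1) (hzc : ∀ x, Commute x z)
    (ha : a * a = 1) (haz : a ∉ Subgroup.zpowers z)
    (hconj : ∀ g : G, g * a * g⁻¹ = a ∨ g * a * g⁻¹ = a * z) :
    (Nat.card V = 81 ∧ q = 3) ∨
    (Nat.card V = q ^ 2 ∧ (∃ m : ℕ, q = 2 ^ m + 1) ∧
      ∃ e : V ≃ₗ[ZMod q] (Fin 2 → ZMod q), ∀ f : (Fin 2 → ZMod q) ≃ₗ[ZMod q] (Fin 2 → ZMod q),
        (∃ g : G, f = e.symm.trans ((ρ g).trans e)) ↔
        ∃ a s : ZMod q, a ≠ 0 ∧ (s = 1 ∨ s = -1) ∧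
          ((∀ v, f v = ![a * v 0, s * a⁻¹ * v 1]) ∨ (∀ v, f v = ![s * a⁻¹ * v 1, a * v 0]))) := by
  haveI : Fact (Nat.Prime 2) := ⟨Nat.prime_two⟩
  have hneg := central_eq_neg hρ hH hq2 hz hz1 (fun g => (hzc g).symm)
  have ha1 : a ≠ 1 := fun h => haz (h ▸ one_mem _)
  have hazne : a ≠ z := fun h => haz (h ▸ Subgroup.mem_zpowers z)
  have two0 := two_ne_zero' hq2
  -- the two eigenspaces of `a`
  have hsplit : ∀ v : V, ∃ u w, ρ a u = u ∧ ρ a w = -w ∧ v = u + w := fun v => by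
    refine ⟨(2 : ZMod q)⁻¹ • (v + ρ a v), (2 : ZMod q)⁻¹ • (v - ρ a v), ?_, ?_, ?_⟩
    · rw [map_smul, map_add, ← ρ_mul, ha, ρ_one, add_comm]
    · rw [map_smul, map_sub, ← ρ_mul, ha, ρ_one, ← smul_neg, neg_sub]
    · rw [← smul_add, add_add_sub_cancel, ← two_smul (ZMod q) v, inv_smul_smul₀ two0]
  have huniq : ∀ u w u' w', ρ a u = u → ρ a w = -w → ρ a u' = u' → ρ a w' = -w' →
      u + w = u' + w' → u = u' ∧ w = w' := by
    intro u w u' w' h1 h2 h3 h4 h
    have hA := congrArg (ρ a) h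
    rw [map_add, map_add, h1, h2, h3, h4] at hA
    have e : (2 : ZMod q) • u = (2 : ZMod q) • u' := by
      rw [two_smul, two_smul]
      calc u + u = (u + w) + (u + -w) := by abel
        _ = (u' + w') + (u' + -w') := by rw [h, hA]
        _ = u' + u' := by abel
    have e' : u = u' := smul_right_injective V two0 e
    subst e'
    exact ⟨rfl, add_left_cancel h⟩
  let H : Subgroup G := Subgroup.centralizer {a}
  have hHmem : ∀ g, g ∈ H ↔ g * a * g⁻¹ = a := fun g => by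
    show g ∈ Subgroup.centralizer {a} ↔ _
    rw [Subgroup.mem_centralizer_singleton_iff, mul_inv_eq_iff_eq_mul]
  have hout : ∀ g, g ∉ H → ∀ v, ρ a (ρ g v) = -ρ g (ρ a v) := by
    intro g hg v
    have h1 : g * a * g⁻¹ = a * z := (hconj g).resolve_left fun h => hg ((hHmem g).2 h)
    have h2 : g * a = a * z * g := mul_inv_eq_iff_eq_mul.1 h1
    rw [← ρ_mul ρ g a, h2, mul_assoc, ρ_mul, ρ_mul, hneg, map_neg, neg_neg]
  have hin : ∀ g, g ∈ H → ∀ v, ρ a (ρ g v) = ρ g (ρ a v) := by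
    intro g hg v
    have h2 : g * a = a * g := Subgroup.mem_centralizer_singleton_iff.1 hg
    rw [← ρ_mul, ← h2, ρ_mul]
  -- both eigenspaces are nonzero
  obtain ⟨u₀, hu₀, hu₀a⟩ : ∃ u : V, u ≠ 0 ∧ ρ a u = u := by
    by_contra h
    push Not at h
    refine hazne (hρ (LinearEquiv.ext fun v => ?_))
    obtain ⟨u, w, hu, hw, rfl⟩ := hsplit v
    have hu0 : u = 0 := by by_contra h'; exact h u h' hu
    rw [hu0, zero_add, hw, hneg]
  obtain ⟨w₀, hw₀, hw₀a⟩ : ∃ w : V, w ≠ 0 ∧ ρ a w = -w := by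
    by_contra h
    push Not at h
    refine ha1 (hρ (LinearEquiv.ext fun v => ?_))
    obtain ⟨u, w, hu, hw, rfl⟩ := hsplit v
    have hw0 : w = 0 := by by_contra h'; exact h w h' hw
    rw [hw0, add_zero, hu, ρ_one]
  -- stabilisers of eigenvectors lie in `H`
  have hstabH : ∀ v : V, v ≠ 0 → (ρ a v = v ∨ ρ a v = -v) → ∀ g ∈ stab ρ v, g ∈ H := by
    intro v hv hva g hg
    by_contra hgH
    have h1 := hout g hgH v
    have hgv : ρ g v = v := hg
    rcases hva with e | e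
    · rw [hgv, e, hgv] at h1; exact hv (eq_zero_of_eq_neg hq2 h1)
    · rw [hgv, e, map_neg, neg_neg, hgv] at h1; exact hv (eq_zero_of_eq_neg hq2 h1.symm)
  -- a stabiliser of `u + w`
  have hpairH : ∀ u w : V, ρ a u = u → ρ a w = -w → ∀ g ∈ stab ρ (u + w), g ∈ H →
      g ∈ stab ρ u ⊓ stab ρ w := by
    intro u w hu hw g hg hgH
    have hg' : ρ g (u + w) = u + w := hg
    rw [map_add] at hg'
    obtain ⟨e1, e2⟩ := huniq _ _ _ _ (by rw [hin g hgH, hu]) (by rw [hin g hgH, hw, map_neg]) hu hw hg'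
    exact ⟨e1, e2⟩
  have hbound : ∀ u w : V, ρ a u = u → ρ a w = -w →
      Nat.card (stab ρ (u + w)) ≤ 2 * Nat.card (stab ρ u ⊓ stab ρ w : Subgroup G) := by
    intro u w hu hw
    have h1 := Subgroup.card_mul_index (H.subgroupOf (stab ρ (u + w)))
    have h2 : (H.subgroupOf (stab ρ (u + w))).index ≤ 2 := by
      by_cases h : ∃ g ∈ stab ρ (u + w), g ∉ H
      · obtain ⟨g, hg, hgH⟩ := h
        refine le_of_eq (Subgroup.index_eq_two_iff'.2 ⟨⟨g, hg⟩, fun b => ?_⟩)
        by_cases hb : (b : G) ∈ H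
        · exact Or.inr ⟨hb, fun h => hgH (by
            have h' : g * (b : G) ∈ H := h
            simpa using H.mul_mem h' (H.inv_mem hb))⟩
        · refine Or.inl ⟨?_, hb⟩
          show g * (b : G) ∈ H
          have e : ∀ v, ρ a (ρ (g * b.1) v) = ρ (g * b.1) (ρ a v) := fun v => by
            rw [ρ_mul, ρ_mul, hout g hgH, hout b.1 hb, map_neg, neg_neg]
          rw [show g * (b : G) ∈ H ↔ _ from Subgroup.mem_centralizer_singleton_iff]
          exact hρ (LinearEquiv.ext fun v => by rw [ρ_mul, ρ_mul ρ a]; exact (e v).symm)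
      · push Not at h
        have : H.subgroupOf (stab ρ (u + w)) = ⊤ := eq_top_iff.2 fun g _ => h g g.2
        rw [this, Subgroup.index_top]; norm_num
    have h3 : Nat.card (H.subgroupOf (stab ρ (u + w))) ≤
        Nat.card (stab ρ u ⊓ stab ρ w : Subgroup G) := by
      rw [← Subgroup.inf_subgroupOf_right,
        Nat.card_congr (Subgroup.subgroupOfEquivOfLe inf_le_right).toEquiv]
      exact Subgroup.card_le_of_le fun g hg => hpairH u w hu hw g hg.2 hg.1
    calc Nat.card (stab ρ (u + w)) = Nat.card (H.subgroupOf (stab ρ (u + w))) *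
          (H.subgroupOf (stab ρ (u + w))).index := h1.symm
      _ ≤ _ * 2 := Nat.mul_le_mul h3 h2
      _ = _ := mul_comm _ _
  have hsum0 : ∀ u w : V, ρ a u = u → ρ a w = -w → u ≠ 0 → u + w ≠ 0 := by
    intro u w hu hw hu0 h
    exact hu0 (huniq u w 0 0 hu hw (map_zero _) (by rw [map_zero, neg_zero]) (by rw [h, add_zero])).1
  -- an element exchanging `u` and `w`
  have hswap : ∀ u w : V, ρ a u = u → ρ a w = -w → u ≠ 0 → w ≠ 0 →
      ∃ g, g ∉ H ∧ ρ g u = w ∧ ρ g w = u := by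
    intro u w hu hw hu0 hw0
    by_contra hne
    push Not at hne
    have hle : stab ρ (u + w) ≤ stab ρ u ⊓ stab ρ w := fun g hg => by
      by_cases hgH : g ∈ H
      · exact hpairH u w hu hw g hg hgH
      · exfalso
        have hg' : ρ g u + ρ g w = u + w := by rw [← map_add]; exact hg
        rw [add_comm] at hg'
        obtain ⟨e1, e2⟩ := huniq _ _ _ _ (by rw [hout g hgH, hw, map_neg, neg_neg])
          (by rw [hout g hgH, hu]) hu hw hg'
        exact hne g hgH e2 e1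
    have heq := Subgroup.eq_of_le_of_card_ge (hle.trans inf_le_left)
      (hH u _ hu0 (hsum0 u w hu hw hu0)).le
    have haw : ρ a w = w := ((heq ▸ hle) ((mem_stab ρ).2 hu : a ∈ stab ρ u)).2
    exact hw0 (eq_zero_of_eq_neg hq2 (haw.symm.trans hw))
  -- elements fixing `u` act as `±1` on the other eigenspace
  have hpm : ∀ u w : V, ρ a u = u → ρ a w = -w → u ≠ 0 → w ≠ 0 → ∀ x ∈ stab ρ u,
      ρ x w = w ∨ ρ x w = -w := by
    intro u w hu hw hu0 hw0 x hx
    have hHx := hstabH u hu0 (Or.inl hu) x hx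
    have hi := hbound u w hu hw
    rw [hH _ u (hsum0 u w hu hw hu0) hu0] at hi
    set I := (stab ρ u ⊓ stab ρ w).subgroupOf (stab ρ u) with hI
    have hIidx : I.index ≤ 2 := by
      have h1 := Subgroup.card_mul_index I
      rw [hI, Nat.card_congr (Subgroup.subgroupOfEquivOfLe inf_le_left).toEquiv, ← hI] at h1
      have hpos : 0 < Nat.card (stab ρ u ⊓ stab ρ w : Subgroup G) := Nat.card_pos
      rw [← h1, mul_comm 2] at hi
      exact Nat.le_of_mul_le_mul_left hi hpos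
    have haI : (⟨a, hu⟩ : stab ρ u) ∉ I := fun h =>
      hw0 (eq_zero_of_eq_neg hq2 ((h.2 : ρ a w = w).symm.trans hw))
    have hidx : I.index = 2 := by
      have : I.index ≠ 1 := fun h => haI (by rw [Subgroup.index_eq_one.1 h]; trivial)
      have h0 : I.index ≠ 0 := Subgroup.index_ne_zero_of_finite
      omega
    by_cases hxI : (⟨x, hx⟩ : stab ρ u) ∈ I
    · exact Or.inl hxI.2
    · right
      have h := ((Subgroup.mul_mem_iff_of_index_two hidx (a := ⟨a, hu⟩) (b := ⟨x, hx⟩)).2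
        (iff_of_false haI hxI)).2
      have h' : ρ (a * x) w = w := h
      rw [ρ_mul] at h'
      have := congrArg (ρ a) h'
      rw [← ρ_mul, ha, ρ_one, hw] at this
      exact this
  have hscal : ∀ u : V, ρ a u = u → u ≠ 0 → ∀ x ∈ stab ρ u,
      (∀ w, ρ a w = -w → ρ x w = w) ∨ (∀ w, ρ a w = -w → ρ x w = -w) := by
    intro u hu hu0 x hx
    by_contra h
    push Not at h
    obtain ⟨⟨w₁, hw₁, h₁⟩, ⟨w₂, hw₂, h₂⟩⟩ := h
    have n1 : w₁ ≠ 0 := fun e => h₁ (by rw [e, map_zero])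
    have n2 : w₂ ≠ 0 := fun e => h₂ (by rw [e, map_zero, neg_zero])
    have f1 := (hpm u w₁ hu hw₁ hu0 n1 x hx).resolve_left h₁
    have f2 := (hpm u w₂ hu hw₂ hu0 n2 x hx).resolve_right h₂
    have hs : ρ a (w₁ + w₂) = -(w₁ + w₂) := by rw [map_add, hw₁, hw₂, neg_add]
    have hxs : ρ x (w₁ + w₂) = -w₁ + w₂ := by rw [map_add, f1, f2]
    by_cases n3 : w₁ + w₂ = 0
    · rw [n3, map_zero] at hxs
      exact n1 (eq_zero_of_eq_neg hq2 (by
        have e : w₂ = -w₁ := eq_neg_of_add_eq_zero_right n3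
        rw [e] at hxs
        have h3 : (2 : ZMod q) • w₁ = 0 := by
          rw [two_smul]
          calc w₁ + w₁ = -(-w₁ + -w₁) := by abel
            _ = 0 := by rw [← hxs, neg_zero]
        rw [(smul_eq_zero.1 h3).resolve_left two0, neg_zero]))
    · rcases hpm u _ hu hs hu0 n3 x hx with e | e <;> rw [hxs] at e
      · exact n1 (eq_zero_of_eq_neg hq2 (add_right_cancel e).symm)
      · exact n2 (eq_zero_of_eq_neg hq2 (by rw [neg_add] at e; exact add_left_cancel e))
  -- stabilisers have order two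
  have hS2 : ∀ u : V, ρ a u = u → u ≠ 0 → ∀ x ∈ stab ρ u, x = 1 ∨ x = a := by
    intro u hu hu0
    have hfixall : ∀ x ∈ stab ρ u, (∀ w, ρ a w = -w → ρ x w = w) → x = 1 := by
      intro x hx hxw
      refine hρ (LinearEquiv.ext fun v => ?_)
      obtain ⟨u', w, hu', hw, rfl⟩ := hsplit v
      rw [map_add, hxw w hw, ρ_one]
      congr 1
      -- move `x` to the other eigenspace
      by_cases hu'0 : u' = 0
      · rw [hu'0, map_zero]
      obtain ⟨g, hgH, hg1, hg2⟩ := hswap u w₀ hu hw₀a hu0 hw₀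
      have hy : g * x * g⁻¹ ∈ stab ρ u := by
        show ρ (g * x * g⁻¹) u = u
        rw [ρ_mul, ρ_mul]
        have : ρ g⁻¹ u = w₀ := by conv_lhs => rw [← hg2]
                                  rw [← ρ_mul, inv_mul_cancel, ρ_one]
        rw [this, hxw w₀ hw₀a, hg2]
      have hgu' : ρ a (ρ g u') = -ρ g u' := by rw [hout g hgH, hu']
      have key : ρ (g * x * g⁻¹) (ρ g u') = ρ g (ρ x u') := by
        rw [← ρ_mul, inv_mul_cancel_right, ρ_mul]
      rcases hscal u hu hu0 _ hy with h | h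
      · have := h _ hgu'
        rw [key] at this
        exact (ρ g).injective this
      · have h1 : ρ (g * x * g⁻¹) (ρ g u) = -ρ g u := h _ (by rw [hout g hgH, hu])
        rw [← ρ_mul, inv_mul_cancel_right, ρ_mul, show ρ x u = u from hx] at h1
        exact absurd ((ρ g).injective (by rw [map_zero]; exact eq_zero_of_eq_neg hq2 h1)) hu0
    intro x hx
    rcases hscal u hu hu0 x hx with h | h
    · exact Or.inl (hfixall x hx h)
    · right
      have := hfixall (a * x) ((stab ρ u).mul_mem hu hx) (fun w hw => by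
        rw [ρ_mul, h w hw, map_neg, hw, neg_neg])
      rw [mul_eq_one_iff_eq_inv] at this
      rw [eq_comm, inv_eq_iff_eq_inv] at this
      rw [this]
      exact inv_eq_of_mul_eq_one_right ha
  -- `H` is transitive on each eigenspace
  letI := act ρ
  let W0 : Submodule (ZMod q) V := LinearMap.eqLocus (ρ a : V →ₗ[ZMod q] V) LinearMap.id
  have hW0 : ∀ v, v ∈ W0 ↔ ρ a v = v := fun v => Iff.rfl
  have horb : MulAction.orbit H u₀ = {v : V | ρ a v = v ∧ v ≠ 0} := by
    ext v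
    constructor
    · rintro ⟨h, rfl⟩
      refine ⟨?_, fun e => hu₀ ((ρ h.1).injective (e.trans (map_zero _).symm))⟩
      show ρ a (ρ h.1 u₀) = ρ h.1 u₀
      rw [hin _ h.2, hu₀a]
    · rintro ⟨hv, hv0⟩
      obtain ⟨g₁, hg₁, e1, -⟩ := hswap u₀ w₀ hu₀a hw₀a hu₀ hw₀
      obtain ⟨g₂, hg₂, -, e2⟩ := hswap v w₀ hv hw₀a hv0 hw₀
      refine ⟨⟨g₂ * g₁, ?_⟩, ?_⟩
      · rw [hHmem]
        have h1 := (hconj g₁).resolve_left fun h => hg₁ ((hHmem g₁).2 h)
        have h2 := (hconj g₂).resolve_left fun h => hg₂ ((hHmem g₂).2 h)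
        rw [show g₂ * g₁ * a * (g₂ * g₁)⁻¹ = g₂ * (g₁ * a * g₁⁻¹) * g₂⁻¹ by group, h1,
          show g₂ * (a * z) * g₂⁻¹ = (g₂ * a * g₂⁻¹) * (g₂ * z * g₂⁻¹) by group, h2,
          (hzc g₂).eq, mul_inv_cancel_right, mul_assoc, hz, mul_one]
      · show ρ (g₂ * g₁) u₀ = v
        rw [ρ_mul, e1, e2]
  have hst : Nat.card (MulAction.stabilizer H u₀) = 2 := by
    have hHa : a ∈ H := Subgroup.mem_centralizer_singleton_iff.2 rfl
    have hset : (MulAction.stabilizer H u₀ : Set H) = {1, ⟨a, hHa⟩} := by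
      ext x
      constructor
      · intro hx
        rcases hS2 u₀ hu₀a hu₀ x.1 hx with e | e
        · exact Or.inl (Subtype.ext e)
        · exact Or.inr (Subtype.ext e)
      · rintro (rfl | rfl)
        · exact one_mem _
        · exact hu₀a
    rw [← SetLike.coe_sort_coe, hset, Nat.card_coe_set_eq, Set.ncard_pair]
    exact fun e => ha1 (congrArg Subtype.val e).symm
  obtain ⟨d, hd⟩ := card_fix_eq_pow (ρ := ρ) a
  have hHcard : (q ^ d - 1) * 2 = Nat.card H := by
    rw [← Subgroup.index_mul_card (MulAction.stabilizer H u₀), MulAction.index_stabilizer, horb, hst]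
    congr 1
    have : {v : V | ρ a v = v ∧ v ≠ 0} = (W0 : Set V) \ {0} := by ext v; exact Iff.rfl
    rw [this, Set.ncard_diff_singleton_of_mem (zero_mem W0), ← Nat.card_coe_set_eq, ← hd]
    rfl
  obtain ⟨t, ht⟩ := (hG.to_subgroup H).exists_card_eq
  obtain ⟨k, -, hk⟩ := (Nat.dvd_prime_pow Nat.prime_two).1 (Dvd.intro 2 (hHcard.trans ht))
  have hd1 : 2 ≤ q ^ d := by
    have : Nontrivial {v : V // ρ a v = v} :=
      ⟨⟨⟨u₀, hu₀a⟩, ⟨0, map_zero _⟩, fun e => hu₀ (congrArg Subtype.val e)⟩⟩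
    rw [← hd]; exact Finite.one_lt_card
  have hd0 : 0 < d := Nat.pos_of_ne_zero fun e => by rw [e, pow_zero] at hd1; omega
  -- the two eigenspaces have the same size
  obtain ⟨g₀, hg₀, -, -⟩ := hswap u₀ w₀ hu₀a hw₀a hu₀ hw₀
  have hW1 : Nat.card {v : V // ρ a v = -v} = q ^ d := by
    rw [← hd]
    refine Nat.card_congr ((ρ g₀).toEquiv.subtypeEquiv fun v => ?_)
    show ρ a v = -v ↔ ρ a (ρ g₀ v) = ρ g₀ v
    rw [hout g₀ hg₀]
    constructor
    · intro h; rw [h, map_neg, neg_neg]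
    · intro h
      apply (ρ g₀).injective
      rw [map_neg]
      exact neg_eq_iff_eq_neg.1 h
  have hVc : Nat.card V = (q ^ d) ^ 2 := by rw [card_eigen hq2 ha, hd, hW1, pow_two]
  have hodd : Odd q := (Fact.out : q.Prime).odd_of_ne_two hq2
  have hq3 : 3 ≤ q := by
    have := (Fact.out : q.Prime).two_le
    omega
  rcases Cfsg.Agent.S3370.odd_power_succ_two_pow (k := k) hodd hq3 hd0 (by omega) with rfl | ⟨rfl, rfl⟩
  swap
  · exact Or.inl ⟨by rw [hVc]; norm_num, rfl⟩
  refine Or.inr ⟨by rw [hVc, pow_one], ⟨k, by rw [pow_one] at hk hd1; omega⟩, ?_⟩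
  rw [pow_one] at hd hW1
  -- coordinates
  have hspan : ∀ (v : V), v ≠ 0 → (∀ u, ρ a u = u → ρ a v = v → ∃ c : ZMod q, u = c • v) ∧
      (∀ u, ρ a u = -u → ρ a v = -v → ∃ c : ZMod q, u = c • v) := by
    intro v hv
    have hinj : Function.Injective fun c : ZMod q => c • v := fun c c' h => by
      have : (c - c') • v = 0 := by rw [sub_smul, sub_eq_zero]; exact h
      exact sub_eq_zero.1 ((smul_eq_zero.1 this).resolve_right hv)
    constructor
    · intro u hu hva
      have hbij : Function.Bijective (fun c : ZMod q =>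
          (⟨c • v, by rw [map_smul, hva]⟩ : {v : V // ρ a v = v})) :=
        (Nat.bijective_iff_injective_and_card _).2
          ⟨fun c c' h => hinj (congrArg Subtype.val h), by rw [hd, Nat.card_zmod]⟩
      obtain ⟨c, hc⟩ := hbij.2 ⟨u, hu⟩
      exact ⟨c, (congrArg Subtype.val hc).symm⟩
    · intro u hu hva
      have hbij : Function.Bijective (fun c : ZMod q =>
          (⟨c • v, by rw [map_smul, hva, smul_neg]⟩ : {v : V // ρ a v = -v})) :=
        (Nat.bijective_iff_injective_and_card _).2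
          ⟨fun c c' h => hinj (congrArg Subtype.val h), by rw [hW1, Nat.card_zmod]⟩
      obtain ⟨c, hc⟩ := hbij.2 ⟨u, hu⟩
      exact ⟨c, (congrArg Subtype.val hc).symm⟩
  let lin : (Fin 2 → ZMod q) →ₗ[ZMod q] V :=
    { toFun := fun x => x 0 • u₀ + x 1 • w₀
      map_add' := fun x y => by simp only [Pi.add_apply, add_smul]; abel
      map_smul' := fun c x => by simp [mul_smul, smul_add] }
  have hlin : Function.Bijective lin := by
    refine (Nat.bijective_iff_surjective_and_card _).2 ⟨fun v => ?_, ?_⟩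
    · obtain ⟨u, w, hu, hw, rfl⟩ := hsplit v
      obtain ⟨c, rfl⟩ := (hspan u₀ hu₀).1 u hu hu₀a
      obtain ⟨c', rfl⟩ := (hspan w₀ hw₀).2 w hw hw₀a
      exact ⟨![c, c'], by simp [lin]⟩
    · rw [hVc, pow_one, Nat.card_fun, Nat.card_zmod, Nat.card_fin]
  let e : V ≃ₗ[ZMod q] (Fin 2 → ZMod q) := (LinearEquiv.ofBijective lin hlin).symm
  refine ⟨e, fun f => ?_⟩
  have he : ∀ x : Fin 2 → ZMod q, e.symm x = x 0 • u₀ + x 1 • w₀ := fun x => rfl
  have hcoord : ∀ (g : G) (x : Fin 2 → ZMod q) (b c : ZMod q),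
      ρ g (x 0 • u₀ + x 1 • w₀) = b • u₀ + c • w₀ →
      (e.symm.trans ((ρ g).trans e)) x = ![b, c] := by
    intro g x b c h
    simp only [LinearEquiv.trans_apply]
    rw [he, h]
    apply e.symm.injective
    rw [e.symm_apply_apply, he]
    simp
  -- the basic elements
  have hW : ∀ y : ZMod q, y ≠ 0 → ∃ g : G, g ∉ H ∧ ∀ x : Fin 2 → ZMod q,
      ρ g (x 0 • u₀ + x 1 • w₀) = (y⁻¹ * x 1) • u₀ + (y * x 0) • w₀ := by
    intro y hy
    obtain ⟨g, hgH, e1, e2⟩ := hswap u₀ (y • w₀) hu₀a (by rw [map_smul, hw₀a, smul_neg]) hu₀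
      (smul_ne_zero hy hw₀)
    refine ⟨g, hgH, fun x => ?_⟩
    have e3 : ρ g w₀ = y⁻¹ • u₀ := by rw [← e2, map_smul, inv_smul_smul₀ hy]
    rw [map_add, map_smul, map_smul, e1, e3, smul_smul, smul_smul, mul_comm (x 0), mul_comm (x 1),
      add_comm]
  obtain ⟨g1, hg1H, hg1⟩ := hW 1 one_ne_zero
  have hD : ∀ y : ZMod q, y ≠ 0 → ∃ g : G, g ∈ H ∧ ∀ x : Fin 2 → ZMod q,
      ρ g (x 0 • u₀ + x 1 • w₀) = (y * x 0) • u₀ + (y⁻¹ * x 1) • w₀ := by
    intro y hy
    obtain ⟨g, hgH, hg⟩ := hW y hy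
    refine ⟨g1 * g, ?_, fun x => ?_⟩
    · rw [hHmem]
      have h1 := (hconj g1).resolve_left fun h => hg1H ((hHmem g1).2 h)
      have h2 := (hconj g).resolve_left fun h => hgH ((hHmem g).2 h)
      rw [show g1 * g * a * (g1 * g)⁻¹ = g1 * (g * a * g⁻¹) * g1⁻¹ by group, h2,
        show g1 * (a * z) * g1⁻¹ = (g1 * a * g1⁻¹) * (g1 * z * g1⁻¹) by group, h1,
        (hzc g1).eq, mul_inv_cancel_right, mul_assoc, hz, mul_one]
    · rw [ρ_mul, hg x]
      have := hg1 ![y⁻¹ * x 1, y * x 0]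
      simpa using this
  have hA : ∀ x : Fin 2 → ZMod q, ρ a (x 0 • u₀ + x 1 • w₀) = x 0 • u₀ + (-x 1) • w₀ := fun x => by
    rw [map_add, map_smul, map_smul, hu₀a, hw₀a, smul_neg, neg_smul]
  have hstd : ∀ g : G, g ∈ H → ∃ y s : ZMod q, y ≠ 0 ∧ (s = 1 ∨ s = -1) ∧
      ∀ x : Fin 2 → ZMod q, ρ g (x 0 • u₀ + x 1 • w₀) = (y * x 0) • u₀ + (s * y⁻¹ * x 1) • w₀ := by
    intro g hg
    obtain ⟨y, hy⟩ := (hspan u₀ hu₀).1 (ρ g u₀) (by rw [hin g hg, hu₀a]) hu₀a
    have hy0 : y ≠ 0 := fun e => hu₀ ((ρ g).injective (by rw [hy, e, zero_smul, map_zero]))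
    obtain ⟨h, -, hh⟩ := hD y hy0
    have hfix : h⁻¹ * g ∈ stab ρ u₀ := by
      show ρ (h⁻¹ * g) u₀ = u₀
      have h1 := hh ![1, 0]
      simp at h1
      rw [ρ_mul, hy, ← h1, ← ρ_mul, inv_mul_cancel, ρ_one]
    rcases hS2 u₀ hu₀a hu₀ _ hfix with e' | e' <;> rw [inv_mul_eq_iff_eq_mul] at e'
    · refine ⟨y, 1, hy0, Or.inl rfl, fun x => ?_⟩
      rw [e', mul_one, one_mul]; exact hh x
    · refine ⟨y, -1, hy0, Or.inr rfl, fun x => ?_⟩
      rw [e', ρ_mul, hA x]
      have := hh ![x 0, -x 1]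
      simpa [neg_mul, mul_neg] using this
  constructor
  · rintro ⟨g, rfl⟩
    by_cases hg : g ∈ H
    · obtain ⟨y, s, hy, hs, hx⟩ := hstd g hg
      exact ⟨y, s, hy, hs, Or.inl fun x => hcoord g x _ _ (hx x)⟩
    · have hgg : g1 * g ∈ H := by
        rw [hHmem]
        have h1 := (hconj g1).resolve_left fun h => hg1H ((hHmem g1).2 h)
        have h2 := (hconj g).resolve_left fun h => hg ((hHmem g).2 h)
        rw [show g1 * g * a * (g1 * g)⁻¹ = g1 * (g * a * g⁻¹) * g1⁻¹ by group, h2,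
          show g1 * (a * z) * g1⁻¹ = (g1 * a * g1⁻¹) * (g1 * z * g1⁻¹) by group, h1,
          (hzc g1).eq, mul_inv_cancel_right, mul_assoc, hz, mul_one]
      obtain ⟨y, s, hy, hs, hx⟩ := hstd _ hgg
      refine ⟨y, s, hy, hs, Or.inr fun x => hcoord g x _ _ ?_⟩
      apply (ρ g1).injective
      rw [← ρ_mul, hx x]
      have := hg1 ![s * y⁻¹ * x 1, y * x 0]
      simpa using this.symm
  · rintro ⟨y, s, hy, hs, hf | hf⟩
    · obtain ⟨g, -, hg⟩ := hD y hy
      rcases hs with rfl | rfl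
      · exact ⟨g, LinearEquiv.ext fun x => by
          rw [hf, hcoord g x _ _ (hg x), one_mul]⟩
      · exact ⟨a * g, LinearEquiv.ext fun x => by
          rw [hf, hcoord (a * g) x _ _ ?_]
          rw [ρ_mul, hg x]
          have := hA ![y * x 0, y⁻¹ * x 1]
          simpa [neg_mul] using this⟩
    · rcases hs with rfl | rfl
      · obtain ⟨g, -, hg⟩ := hW y hy
        exact ⟨g, LinearEquiv.ext fun x => by rw [hf, hcoord g x _ _ (hg x), one_mul]⟩
      · obtain ⟨g, -, hg⟩ := hW (-y) (neg_ne_zero.2 hy)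
        exact ⟨a * g, LinearEquiv.ext fun x => by
          rw [hf, hcoord (a * g) x _ _ ?_]
          rw [ρ_mul, hg x]
          have := hA ![(-y)⁻¹ * x 1, -y * x 0]
          simpa [neg_mul, inv_neg] using this⟩

end CfsgLib.HalfLin
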